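import Mathlib
import Cfsg.Prelude
import Cfsg.Agent.Lib.Helper1.Rs6
import Cfsg.Agent.Lib.Helper6.SW3
import Cfsg.Agent.Lib.Helper6.SLTwoGen

set_option autoImplicit false
set_option maxHeartbeats 4000000
set_option linter.unusedVariables false
set_option linter.unusedSectionVars false
set_option linter.style.longLine false
set_option linter.unusedSimpArgs false
set_option linter.deprecated false

/-! Two-generation of `Sp_2n(F)`, part 1: the Coxeter-type element, the central torus element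
of the Levi factor, and their actions on the standard basis. -/

namespace Cfsg.Agent.Lib.Helper5.SpTwoGen

open Matrix Cfsg Cfsg.Agent.Lib.Helper5.SympTv Cfsg.Agent.Lib.Helper5.SympPerfect
  Cfsg.Agent.Lib.Helper5.SympGen Cfsg.Agent.Lib.Helper1.Rg Cfsg.Agent.Lib.Helper1.Rs
  Cfsg.Agent.Lib.Helper6.SW

universe u

variable {F : Type u} [Field F] {n : ℕ}

/-! ### block matrices acting on vectors -/

theorem bmat_mulVec_elim (d : Fin n → Matrix (Fin 2) (Fin 2) F) (p q : Fin n → F) :
    bmat n d *ᵥ Sum.elim p q =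
      Sum.elim (fun i => d i 0 0 * p i + d i 0 1 * q i) (fun i => d i 1 0 * p i + d i 1 1 * q i) := by
  unfold bmat
  rw [fromBlocks_mulVec]
  ext i
  cases i with
  | inl i => simp [mulVec_diagonal]
  | inr i => simp [mulVec_diagonal]

theorem pmat_mulVec_elim (σ : Equiv.Perm (Fin n)) (p q : Fin n → F) :
    pmat n σ *ᵥ Sum.elim p q = Sum.elim (p ∘ σ.symm) (q ∘ σ.symm) := by
  have key : ∀ r : Fin n → F, permMatrixHom (R := F) σ *ᵥ r = r ∘ σ.symm := by
    intro r
    funext i
    rw [mulVec, dotProduct, Finset.sum_eq_single (σ.symm i)]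
    · rw [permMatrixHom_entry, if_pos rfl, one_mul]; rfl
    · intro j _ hj
      rw [permMatrixHom_entry, if_neg (fun h => hj h.symm), zero_mul]
    · intro h; exact absurd (Finset.mem_univ _) h
  unfold pmat
  rw [fromBlocks_mulVec]
  simp only [Sum.elim_comp_inl, Sum.elim_comp_inr, key, zero_mulVec, add_zero, zero_add]

theorem E_comp_symm (σ : Equiv.Perm (Fin n)) {k : ℕ} (hk : k < n) :
    E n F k ∘ σ.symm = E n F (σ ⟨k, hk⟩).val := by
  funext i
  rw [Function.comp_apply, E_apply, E_apply]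
  by_cases h : i = σ ⟨k, hk⟩
  · rw [if_pos (by rw [h, Equiv.symm_apply_apply]), if_pos (by rw [h])]
  · rw [if_neg, if_neg]
    · intro h'; exact h (Fin.ext h')
    · intro h'
      apply h
      have : σ.symm i = ⟨k, hk⟩ := Fin.ext h'
      rw [← this, Equiv.apply_symm_apply]

theorem act_sf₂_ev (σ : Equiv.Perm (Fin n)) {k : ℕ} (hk : k < n) :
    act (sf₂ F n σ) (ev n F k) = ev n F (σ ⟨k, hk⟩).val := by
  rw [act_def]
  show pmat n σ *ᵥ ev n F k = _
  unfold ev
  rw [pmat_mulVec_elim, E_comp_symm σ hk]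
  congr 1

theorem act_sf₂_fv (σ : Equiv.Perm (Fin n)) {k : ℕ} (hk : k < n) :
    act (sf₂ F n σ) (fv n F k) = fv n F (σ ⟨k, hk⟩).val := by
  rw [act_def]
  show pmat n σ *ᵥ fv n F k = _
  unfold fv
  rw [pmat_mulVec_elim, E_comp_symm σ hk]
  congr 1

theorem act_sf₁_ev (d : Fin n → SpecialLinearGroup (Fin 2) F) {k : ℕ} (hk : k < n) :
    act (sf₁ F n d) (ev n F k) =
      (d ⟨k, hk⟩ : Matrix (Fin 2) (Fin 2) F) 0 0 • ev n F k +
        (d ⟨k, hk⟩ : Matrix (Fin 2) (Fin 2) F) 1 0 • fv n F k := by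
  rw [act_def, sf₁_val]
  unfold ev fv
  rw [bmat_mulVec_elim]
  ext i
  cases i with
  | inl i =>
    simp only [Sum.elim_inl, Pi.add_apply, Pi.smul_apply, smul_eq_mul, Pi.zero_apply, mul_zero,
      add_zero, E_apply]
    by_cases h : i.val = k
    · have : i = ⟨k, hk⟩ := Fin.ext h
      rw [if_pos h, this]
    · rw [if_neg h, mul_zero, mul_zero]
  | inr i =>
    simp only [Sum.elim_inr, Pi.add_apply, Pi.smul_apply, smul_eq_mul, Pi.zero_apply, mul_zero,
      add_zero, zero_add, E_apply]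
    by_cases h : i.val = k
    · have : i = ⟨k, hk⟩ := Fin.ext h
      rw [if_pos h, this]
    · rw [if_neg h, mul_zero, mul_zero]

theorem act_sf₁_fv (d : Fin n → SpecialLinearGroup (Fin 2) F) {k : ℕ} (hk : k < n) :
    act (sf₁ F n d) (fv n F k) =
      (d ⟨k, hk⟩ : Matrix (Fin 2) (Fin 2) F) 0 1 • ev n F k +
        (d ⟨k, hk⟩ : Matrix (Fin 2) (Fin 2) F) 1 1 • fv n F k := by
  rw [act_def, sf₁_val]
  unfold ev fv
  rw [bmat_mulVec_elim]
  ext i
  cases i with
  | inl i =>
    simp only [Sum.elim_inl, Pi.add_apply, Pi.smul_apply, smul_eq_mul, Pi.zero_apply, mul_zero,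
      add_zero, zero_add, E_apply]
    by_cases h : i.val = k
    · have : i = ⟨k, hk⟩ := Fin.ext h
      rw [if_pos h, this]
    · rw [if_neg h, mul_zero, mul_zero]
  | inr i =>
    simp only [Sum.elim_inr, Pi.add_apply, Pi.smul_apply, smul_eq_mul, Pi.zero_apply, mul_zero,
      add_zero, zero_add, E_apply]
    by_cases h : i.val = k
    · have : i = ⟨k, hk⟩ := Fin.ext h
      rw [if_pos h, this]
    · rw [if_neg h, mul_zero, mul_zero]

/-! ### the Coxeter-type element -/

/-- the matrix `e ↦ f`, `f ↦ -e` -/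
def Smat (F : Type u) [Field F] : SpecialLinearGroup (Fin 2) F :=
  ⟨!![0, -1; 1, 0], by simp [det_fin_two]⟩

/-- `Smat` in the last block, the identity elsewhere -/
def sblk (n : ℕ) (F : Type u) [Field F] : Fin n → SpecialLinearGroup (Fin 2) F :=
  fun i => if i.val + 1 = n then Smat F else 1

/-- the Coxeter-type element `e_0 → e_1 → ⋯ → e_{n-1} → f_0 → ⋯ → f_{n-1} → -e_0` -/
def cox (n : ℕ) (F : Type u) [Field F] : ↥(symplecticGroup (Fin n) F) :=
  sf₂ F n (finRotate n) * sf₁ F n (sblk n F)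

theorem finRotate_val {k : ℕ} (hk : k < n) :
    (finRotate n ⟨k, hk⟩).val = if k + 1 = n then 0 else k + 1 := by
  cases n with
  | zero => omega
  | succ m =>
    rw [coe_finRotate]
    by_cases h : k = m
    · subst h
      rw [if_pos (show (⟨k, hk⟩ : Fin (k + 1)) = Fin.last k from rfl), if_pos rfl]
    · rw [if_neg, if_neg]
      · omega
      · intro h'; apply h
        have := congrArg Fin.val h'
        simpa using this

theorem sblk_lt {k : ℕ} (hk : k + 1 < n) : sblk n F ⟨k, by omega⟩ = 1 := by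
  unfold sblk
  rw [if_neg]
  simp only; omega

theorem sblk_last {k : ℕ} (hk : k + 1 = n) : sblk n F ⟨k, by omega⟩ = Smat F := by
  unfold sblk
  rw [if_pos]
  simpa using hk

theorem sblk_lt_coe {k : ℕ} (hk : k + 1 < n) :
    (sblk n F ⟨k, by omega⟩ : Matrix (Fin 2) (Fin 2) F) = 1 := by
  rw [sblk_lt hk]; rfl

theorem sblk_last_coe {k : ℕ} (hk : k + 1 = n) :
    (sblk n F ⟨k, by omega⟩ : Matrix (Fin 2) (Fin 2) F) = !![0, -1; 1, 0] := by
  rw [sblk_last hk]; rfl

theorem cox_ev {k : ℕ} (hk : k + 1 < n) : act (cox n F) (ev n F k) = ev n F (k + 1) := by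
  unfold cox
  rw [act_mul, act_sf₁_ev _ (show k < n by omega), sblk_lt_coe hk]
  simp only [one_apply_eq, one_smul, ne_eq, one_ne_zero,
    not_false_eq_true, one_apply_ne, zero_smul, add_zero]
  rw [act_sf₂_ev _ (show k < n by omega), finRotate_val, if_neg (by omega)]

theorem cox_fv {k : ℕ} (hk : k + 1 < n) : act (cox n F) (fv n F k) = fv n F (k + 1) := by
  unfold cox
  rw [act_mul, act_sf₁_fv _ (show k < n by omega), sblk_lt_coe hk]
  simp only [one_apply_eq, one_smul, ne_eq, zero_ne_one,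
    not_false_eq_true, one_apply_ne, zero_smul, zero_add]
  rw [act_sf₂_fv _ (show k < n by omega), finRotate_val, if_neg (by omega)]

theorem cox_ev_last {k : ℕ} (hk : k + 1 = n) : act (cox n F) (ev n F k) = fv n F 0 := by
  unfold cox
  rw [act_mul, act_sf₁_ev _ (show k < n by omega), sblk_last_coe hk]
  simp only [of_apply, cons_val', cons_val_zero, cons_val_fin_one, cons_val_one, zero_smul,
    one_smul, zero_add]
  rw [act_sf₂_fv _ (show k < n by omega), finRotate_val, if_pos hk]

theorem cox_fv_last {k : ℕ} (hk : k + 1 = n) : act (cox n F) (fv n F k) = -ev n F 0 := by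
  unfold cox
  rw [act_mul, act_sf₁_fv _ (show k < n by omega), sblk_last_coe hk]
  simp only [of_apply, cons_val', cons_val_zero, cons_val_fin_one, cons_val_one, zero_smul,
    neg_smul, one_smul, add_zero]
  rw [act_neg, act_sf₂_ev _ (show k < n by omega), finRotate_val, if_pos hk]

/-! ### the second generator -/

/-- the second generator `cox * T_{e_0}(1)` -/
noncomputable def yel (n : ℕ) (F : Type u) [Field F] : ↥(symplecticGroup (Fin n) F) :=
  cox n F * tv n (ev n F 0) 1

theorem yel_ev {k : ℕ} (hk : k + 1 < n) : act (yel n F) (ev n F k) = ev n F (k + 1) := by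
  unfold yel
  rw [act_mul, act_tv, form_ev_ev, mul_zero, zero_smul, add_zero, cox_ev hk]

theorem yel_ev_last {k : ℕ} (hk : k + 1 = n) : act (yel n F) (ev n F k) = fv n F 0 := by
  unfold yel
  rw [act_mul, act_tv, form_ev_ev, mul_zero, zero_smul, add_zero, cox_ev_last hk]

theorem yel_fv {k : ℕ} (hk0 : 1 ≤ k) (hk : k + 1 < n) :
    act (yel n F) (fv n F k) = fv n F (k + 1) := by
  unfold yel
  rw [act_mul, act_tv, form_fv_ev_ne (by omega), mul_zero, zero_smul, add_zero, cox_fv hk]

theorem yel_fv_last {k : ℕ} (hk0 : 1 ≤ k) (hk : k + 1 = n) :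
    act (yel n F) (fv n F k) = -ev n F 0 := by
  unfold yel
  rw [act_mul, act_tv, form_fv_ev_ne (by omega), mul_zero, zero_smul, add_zero, cox_fv_last hk]

theorem yel_fv_zero (hn : 2 ≤ n) : act (yel n F) (fv n F 0) = fv n F 1 + ev n F 1 := by
  unfold yel
  rw [act_mul, act_tv, form_fv_ev_self (by omega), mul_one, one_smul, act_add,
    cox_fv (show 0 + 1 < n by omega), cox_ev (show 0 + 1 < n by omega)]

/-! ### the torus element -/

/-- the diagonal matrix `diag(k, k⁻¹)` -/
def Dmat (k : Fˣ) : SpecialLinearGroup (Fin 2) F :=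
  ⟨!![(k : F), 0; 0, ((k⁻¹ : Fˣ) : F)], by simp [det_fin_two]⟩

/-- the central torus element of the Levi factor -/
def dtor (n : ℕ) (k : Fˣ) : ↥(symplecticGroup (Fin n) F) := sf₁ F n (fun _ => Dmat k)

theorem dtor_ev (k : Fˣ) (j : ℕ) : act (dtor n k) (ev n F j) = (k : F) • ev n F j := by
  by_cases hj : j < n
  · unfold dtor
    rw [act_sf₁_ev _ hj]
    simp [Dmat]
  · rw [ev_eq_zero (by omega), act_zero, smul_zero]

theorem dtor_fv (k : Fˣ) (j : ℕ) :
    act (dtor n k) (fv n F j) = ((k⁻¹ : Fˣ) : F) • fv n F j := by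
  by_cases hj : j < n
  · unfold dtor
    rw [act_sf₁_fv _ hj]
    simp [Dmat]
  · rw [fv_eq_zero (by omega), act_zero, smul_zero]

/-- the first unipotent generator `x_{ε_0 - ε_1}(1)` -/
noncomputable def ael (n : ℕ) (F : Type u) [Field F] : ↥(symplecticGroup (Fin n) F) :=
  rho (ev n F 0) (fv n F 1) 0

end Cfsg.Agent.Lib.Helper5.SpTwoGen
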