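import Mathlib
import Cfsg.Prelude
import Cfsg.Agent.Lib.Helper5.SpTwoGen.Basic

set_option autoImplicit false
set_option maxHeartbeats 4000000
set_option linter.unusedVariables false
set_option linter.unusedSectionVars false
set_option linter.style.longLine false
set_option linter.unusedSimpArgs false
set_option linter.deprecated false

/-! Two-generation of `Sp_2n(F)`, part 2: the chain of root elements obtained by conjugating
with the second generator, and the radical of the stabiliser of `e_0` modulo its centre. -/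

namespace Cfsg.Agent.Lib.Helper5.SpTwoGen

open Matrix Cfsg Cfsg.Agent.Lib.Helper5.SympTv Cfsg.Agent.Lib.Helper5.SympPerfect
  Cfsg.Agent.Lib.Helper5.SympGen Cfsg.Agent.Lib.Helper1.Rg Cfsg.Agent.Lib.Helper1.Rs
  Cfsg.Agent.Lib.Helper6.SW

universe u

variable {F : Type u} [Field F] {n : ℕ}

theorem conj_mem_iff' {G : Type*} [Group G] {H : Subgroup G} {y : G} (hy : y ∈ H) (g : G) :
    y * g * y⁻¹ ∈ H ↔ g ∈ H := by
  constructor
  · intro h
    have := H.mul_mem (H.mul_mem (H.inv_mem hy) h) hy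
    simpa [mul_assoc] using this
  · intro h
    exact H.mul_mem (H.mul_mem hy h) (H.inv_mem hy)

/-- `rho a (t b) 0` is symmetric in `a`, `b` -/
theorem rho_symm' {a b : Fin n ⊕ Fin n → F} (hab : sympForm n F a b = 0) (t : F) :
    rho a (t • b) 0 = rho b (t • a) 0 := by
  have hba : sympForm n F b a = 0 := form_eq_zero_symm hab
  have h1 : sympForm n F a (t • b) = 0 := by rw [sympForm_smul_right, hab, mul_zero]
  have h2 : sympForm n F b (t • a) = 0 := by rw [sympForm_smul_right, hba, mul_zero]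
  apply ext_act
  intro x
  rw [act_rho h1, act_rho h2]
  simp only [sympForm_smul_right, zero_mul, zero_smul, add_zero]
  module

section chain

variable {H : Subgroup ↥(symplecticGroup (Fin n) F)}

/-- the root element `x_{ε_j - ε_{j+1}}(t)` lies in `H` -/
def Pj (H : Subgroup ↥(symplecticGroup (Fin n) F)) (j : ℕ) (t : F) : Prop :=
  rho (ev n F j) (t • fv n F (j + 1)) 0 ∈ H

/-- the root element `x_{ε_0 + ε_l}(t)` lies in `H` -/
def Rr (H : Subgroup ↥(symplecticGroup (Fin n) F)) (l : ℕ) (t : F) : Prop :=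
  rho (ev n F l) (t • ev n F 0) 0 ∈ H

theorem Pj_succ_iff (hy : yel n F ∈ H) {j : ℕ} (hj : j + 2 < n) (t : F) :
    Pj H (j + 1) t ↔ Pj H j t := by
  unfold Pj
  rw [← conj_mem_iff' hy (rho (ev n F j) (t • fv n F (j + 1)) 0), conj_rho, act_smul,
    yel_ev (by omega), yel_fv (by omega) (by omega)]

theorem Rr_iff (hy : yel n F ∈ H) {j : ℕ} (hj : j + 2 = n) (t : F) :
    Rr H (j + 1) (-t) ↔ Pj H j t := by
  unfold Pj Rr
  rw [← conj_mem_iff' hy (rho (ev n F j) (t • fv n F (j + 1)) 0), conj_rho, act_smul,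
    yel_ev (by omega), yel_fv_last (by omega) (by omega), smul_neg, neg_smul]

theorem Pj_iff_zero (hy : yel n F ∈ H) (t : F) : ∀ j : ℕ, j + 2 ≤ n → (Pj H j t ↔ Pj H 0 t) := by
  intro j
  induction j with
  | zero => intro _; exact Iff.rfl
  | succ j ih =>
    intro hj
    rw [Pj_succ_iff hy (by omega), ih (by omega)]

theorem Rr_iff_zero (hy : yel n F ∈ H) {l : ℕ} (hl : l + 1 = n) (hn : 2 ≤ n) (t : F) :
    Rr H l (-t) ↔ Pj H 0 t := by
  obtain ⟨j, rfl⟩ : ∃ j, l = j + 1 := ⟨l - 1, by omega⟩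
  rw [Rr_iff hy (by omega), Pj_iff_zero hy t j (by omega)]

/-- the additive group of `t` with `x_{ε_0 + ε_l}(t) ∈ H` -/
def Rgrp (H : Subgroup ↥(symplecticGroup (Fin n) F)) (l : ℕ) : AddSubgroup F where
  carrier := {t | Rr H l t}
  zero_mem' := by
    show rho (ev n F l) ((0 : F) • ev n F 0) 0 ∈ H
    rw [zero_smul, rho_zero, tv_zero]; exact H.one_mem
  add_mem' := by
    intro s t hs ht
    show rho (ev n F l) ((s + t) • ev n F 0) 0 ∈ H
    have h1 : sympForm n F (ev n F l) (s • ev n F 0) = 0 := by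
      rw [sympForm_smul_right, form_ev_ev, mul_zero]
    have h2 : sympForm n F (ev n F l) (t • ev n F 0) = 0 := by
      rw [sympForm_smul_right, form_ev_ev, mul_zero]
    have := rho_mul h1 h2 0 0
    rw [sympForm_smul_left, sympForm_smul_right, form_ev_ev, mul_zero, mul_zero, add_zero,
      add_zero, ← add_smul] at this
    rw [← this]
    exact H.mul_mem hs ht
  neg_mem' := by
    intro s hs
    show rho (ev n F l) ((-s) • ev n F 0) 0 ∈ H
    have h1 : sympForm n F (ev n F l) (s • ev n F 0) = 0 := by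
      rw [sympForm_smul_right, form_ev_ev, mul_zero]
    have := rho_inv h1 0
    rw [neg_zero, ← neg_smul] at this
    rw [← this]
    exact H.inv_mem hs

theorem mem_Rgrp {l : ℕ} {t : F} : t ∈ Rgrp H l ↔ Rr H l t := Iff.rfl

theorem Rr_dtor {k : Fˣ} (hd : dtor n k ∈ H) {l : ℕ} {t : F} (ht : Rr H l t) :
    Rr H l ((k : F) * (k : F) * t) := by
  unfold Rr at ht ⊢
  have h := (conj_mem_iff' hd _).mpr ht
  rw [conj_rho, act_smul, dtor_ev, dtor_ev] at h
  have h1 : sympForm n F (ev n F l) (t • (k : F) • ev n F 0) = 0 := by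
    rw [sympForm_smul_right, sympForm_smul_right, form_ev_ev, mul_zero, mul_zero]
  rw [rho_smul_left h1, mul_zero, smul_smul, smul_smul] at h
  have e : (k : F) * t * (k : F) = (k : F) * (k : F) * t := by ring
  rw [e] at h
  exact h

theorem Rgrp_eq_top [Fintype F] {k : Fˣ} (hk : ∀ u : Fˣ, u ∈ Subgroup.zpowers k)
    (hd : dtor n k ∈ H) {l : ℕ} {c₀ : F} (hc₀ : c₀ ≠ 0) (h0 : Rr H l c₀) : Rgrp H l = ⊤ := by
  refine Cfsg.Agent.Lib.Helper6.SLTwoGen.addSubgroup_eq_top_of_sq_stable _ k hk c₀ hc₀ ?_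
  intro m
  induction m with
  | zero => rw [pow_zero, one_mul]; exact h0
  | succ m ih =>
    have := Rr_dtor hd ih
    rw [pow_succ]
    have e : ((k : F) * (k : F)) ^ m * ((k : F) * (k : F)) * c₀
        = (k : F) * (k : F) * (((k : F) * (k : F)) ^ m * c₀) := by ring
    rw [e]; exact this

/-- all root elements `x_{ε_0 + ε_l}(t)` and `x_{ε_j - ε_{j+1}}(t)` lie in `H` -/
theorem Rr_all [Fintype F] {k : Fˣ} (hk : ∀ u : Fˣ, u ∈ Subgroup.zpowers k)
    (hd : dtor n k ∈ H) (hy : yel n F ∈ H) (ha : ael n F ∈ H) (hn : 2 ≤ n) {l : ℕ}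
    (hl : l + 1 = n) (t : F) : Rr H l t := by
  have h1 : Pj H 0 1 := by
    unfold Pj; rw [one_smul]; exact ha
  have h2 : Rr H l (-1) := (Rr_iff_zero hy hl hn 1).mpr h1
  have h3 := Rgrp_eq_top hk hd (neg_ne_zero.mpr one_ne_zero) h2
  have : t ∈ Rgrp H l := by rw [h3]; trivial
  exact this

theorem Pj_all [Fintype F] {k : Fˣ} (hk : ∀ u : Fˣ, u ∈ Subgroup.zpowers k)
    (hd : dtor n k ∈ H) (hy : yel n F ∈ H) (ha : ael n F ∈ H) (hn : 2 ≤ n) {j : ℕ}
    (hj : j + 2 ≤ n) (t : F) : Pj H j t := by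
  rw [Pj_iff_zero hy t j hj]
  obtain ⟨l, hl⟩ : ∃ l, l + 1 = n := ⟨n - 1, by omega⟩
  rw [← Rr_iff_zero hy hl hn]
  exact Rr_all hk hd hy ha hn hl _

end chain

end Cfsg.Agent.Lib.Helper5.SpTwoGen
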