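import Mathlib
import Cfsg.Prelude
import Cfsg.Agent.Lib.Helper5.SpTwoGen.Chain

set_option autoImplicit false
set_option maxHeartbeats 4000000
set_option linter.unusedVariables false
set_option linter.unusedSectionVars false
set_option linter.style.longLine false
set_option linter.unusedSimpArgs false
set_option linter.deprecated false

/-! Two-generation of `Sp_2n(F)`, part 3: the radical of the stabiliser of `e_0` modulo its
centre is contained in the subgroup generated. -/

namespace Cfsg.Agent.Lib.Helper5.SpTwoGen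

open Matrix Cfsg Cfsg.Agent.Lib.Helper5.SympTv Cfsg.Agent.Lib.Helper5.SympPerfect
  Cfsg.Agent.Lib.Helper5.SympGen Cfsg.Agent.Lib.Helper1.Rg Cfsg.Agent.Lib.Helper1.Rs
  Cfsg.Agent.Lib.Helper6.SW

universe u

variable {F : Type u} [Field F] {n : ℕ}

section rad

variable {H : Subgroup ↥(symplecticGroup (Fin n) F)}

theorem act_mem_Mfull {a : Fin n ⊕ Fin n → F} {h : ↥(symplecticGroup (Fin n) F)} (hh : h ∈ H)
    (ha : act h a = a) {m : Fin n ⊕ Fin n → F} (hm : m ∈ Mfull (Mgrp H a)) :
    act h m ∈ Mfull (Mgrp H a) := by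
  intro x
  rw [← act_smul]
  exact act_mem_Mgrp hh ha (hm x)

theorem form_ev_smul_fv_succ (j : ℕ) (t : F) :
    sympForm n F (ev n F j) (t • fv n F (j + 1)) = 0 := by
  rw [sympForm_smul_right, form_ev_fv_ne (by omega), mul_zero]

theorem aj_ev_zero {j : ℕ} (hj : 1 ≤ j) (t : F) :
    act (rho (ev n F j) (t • fv n F (j + 1)) 0) (ev n F 0) = ev n F 0 := by
  rw [act_rho (form_ev_smul_fv_succ j t), form_ev_ev, sympForm_smul_right,
    form_ev_fv_ne (by omega)]
  simp

theorem aj_fv {j : ℕ} (hj : j + 1 < n) (t : F) :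
    act (rho (ev n F j) (t • fv n F (j + 1)) 0) (fv n F j) = fv n F j + t • fv n F (j + 1) := by
  rw [act_rho (form_ev_smul_fv_succ j t), form_fv_ev_self (by omega), sympForm_smul_right,
    form_fv_fv]
  simp

theorem aj_ev_succ {j : ℕ} (hj : j + 1 < n) (t : F) :
    act (rho (ev n F j) (t • fv n F (j + 1)) 0) (ev n F (j + 1)) =
      ev n F (j + 1) - t • ev n F j := by
  rw [act_rho (form_ev_smul_fv_succ j t), form_ev_ev, sympForm_smul_right,
    form_ev_fv_self (by omega)]
  simp only [zero_smul, add_zero, mul_neg, mul_one, neg_smul, mul_zero]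
  module

variable [Fintype F] {k : Fˣ}

theorem fv_full (hk : ∀ u : Fˣ, u ∈ Subgroup.zpowers k)
    (hd : dtor n k ∈ H) (hy : yel n F ∈ H) (ha : ael n F ∈ H) (hn : 2 ≤ n) :
    ∀ j : ℕ, j + 1 < n → fv n F (j + 1) ∈ Mfull (Mgrp H (ev n F 0)) := by
  intro j
  induction j with
  | zero =>
    intro _ x
    refine ⟨form_ev_smul_fv_succ 0 x, 0, ?_⟩
    exact Pj_all hk hd hy ha hn (by omega) x
  | succ j ih =>
    intro hj
    have h1 := ih (by omega)
    have h2 : rho (ev n F (j + 1)) ((1 : F) • fv n F (j + 1 + 1)) 0 ∈ H :=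
      Pj_all hk hd hy ha hn (by omega) 1
    have h3 := act_mem_Mfull h2 (aj_ev_zero (by omega) 1) h1
    rw [aj_fv hj, one_smul] at h3
    have := (Mfull (Mgrp H (ev n F 0))).sub_mem h3 h1
    rwa [add_sub_cancel_left] at this

theorem ev_full_aux (hk : ∀ u : Fˣ, u ∈ Subgroup.zpowers k)
    (hd : dtor n k ∈ H) (hy : yel n F ∈ H) (ha : ael n F ∈ H) (hn : 2 ≤ n) {l : ℕ}
    (hl : l + 1 = n) :
    ∀ d j : ℕ, j + d = l → 1 ≤ j → ev n F j ∈ Mfull (Mgrp H (ev n F 0)) := by
  intro d
  induction d with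
  | zero =>
    intro j hj _ x
    have hjl : j = l := by omega
    subst hjl
    refine ⟨by rw [sympForm_smul_right, form_ev_ev, mul_zero], 0, ?_⟩
    rw [rho_symm' (form_ev_ev 0 j)]
    exact Rr_all hk hd hy ha hn hl x
  | succ d ih =>
    intro j hj hj1
    have h1 := ih (j + 1) (by omega) (by omega)
    have h2 : rho (ev n F j) ((1 : F) • fv n F (j + 1)) 0 ∈ H :=
      Pj_all hk hd hy ha hn (by omega) 1
    have h3 := act_mem_Mfull h2 (aj_ev_zero hj1 1) h1
    rw [aj_ev_succ (by omega), one_smul] at h3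
    have := (Mfull (Mgrp H (ev n F 0))).sub_mem h1 h3
    rwa [sub_sub_cancel] at this

theorem ev_full (hk : ∀ u : Fˣ, u ∈ Subgroup.zpowers k)
    (hd : dtor n k ∈ H) (hy : yel n F ∈ H) (ha : ael n F ∈ H) (hn : 2 ≤ n) (j : ℕ) :
    ev n F j ∈ Mfull (Mgrp H (ev n F 0)) := by
  by_cases hj : j < n
  · by_cases hj0 : j = 0
    · subst hj0
      intro x
      exact smul_self_mem_Mgrp H _ x
    · exact ev_full_aux hk hd hy ha hn (l := n - 1) (by omega) (n - 1 - j) j (by omega) (by omega)
  · rw [ev_eq_zero (k := j) (by omega)]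
    exact Submodule.zero_mem _

/-- the radical of the stabiliser of `e_0`, modulo its centre, lies in `H` -/
theorem hrad_of (hk : ∀ u : Fˣ, u ∈ Subgroup.zpowers k)
    (hd : dtor n k ∈ H) (hy : yel n F ∈ H) (ha : ael n F ∈ H) (hn : 2 ≤ n) :
    ∀ b, sympForm n F (ev n F 0) b = 0 → ∃ c, rho (ev n F 0) b c ∈ H := by
  intro b hb
  have hmem : b ∈ Mfull (Mgrp H (ev n F 0)) := by
    rw [vec_decomp b]
    apply Submodule.sum_mem
    intro i _
    apply Submodule.add_mem
    · exact Submodule.smul_mem _ _ (ev_full hk hd hy ha hn i.val)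
    · by_cases hi : i.val = 0
      · have h0 : b (Sum.inr i) = 0 := by
          have := form_x_ev b (show 0 < n by omega)
          have hi' : i = ⟨0, by omega⟩ := Fin.ext hi
          rw [hi', ← this, sympForm_swap, hb, neg_zero]
        rw [h0, zero_smul]
        exact Submodule.zero_mem _
      · apply Submodule.smul_mem
        have := fv_full hk hd hy ha hn (i.val - 1) (by have := i.isLt; omega)
        have e : i.val - 1 + 1 = i.val := by omega
        rwa [e] at this
  have := hmem 1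
  rw [one_smul] at this
  exact this.2

end rad

end Cfsg.Agent.Lib.Helper5.SpTwoGen
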