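import Mathlib
import Cfsg.Prelude
import Cfsg.Agent.Lib.Helper5.SpTwoGen.Rad

set_option autoImplicit false
set_option maxHeartbeats 4000000
set_option linter.unusedVariables false
set_option linter.unusedSectionVars false
set_option linter.style.longLine false
set_option linter.unusedSimpArgs false
set_option linter.deprecated false

/-! Two-generation of `Sp_2n(F)`, part 4: the long root subgroup of `e_0` lies in the subgroup
generated. -/

namespace Cfsg.Agent.Lib.Helper5.SpTwoGen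

open Matrix Cfsg Cfsg.Agent.Lib.Helper5.SympTv Cfsg.Agent.Lib.Helper5.SympPerfect
  Cfsg.Agent.Lib.Helper5.SympGen Cfsg.Agent.Lib.Helper1.Rg Cfsg.Agent.Lib.Helper1.Rs
  Cfsg.Agent.Lib.Helper6.SW

universe u

variable {F : Type u} [Field F] {n : ℕ}

section center

variable {H : Subgroup ↥(symplecticGroup (Fin n) F)}

/-! ### stability of the long root coefficients under the torus -/

theorem Cgrp_dtor {k : Fˣ} (hd : dtor n k ∈ H) {j : ℕ} {t : F} (ht : t ∈ Cgrp H (ev n F j)) :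
    (k : F) * (k : F) * t ∈ Cgrp H (ev n F j) := by
  rw [mem_Cgrp] at ht ⊢
  have h := (conj_mem_iff' hd _).mpr ht
  rw [conj_tv, ← act_def, dtor_ev, tv_smul] at h
  exact h

theorem Cgrp_eq_top [Fintype F] {k : Fˣ} (hk : ∀ u : Fˣ, u ∈ Subgroup.zpowers k)
    (hd : dtor n k ∈ H) {j : ℕ} {c₀ : F} (hc₀ : c₀ ≠ 0) (h0 : c₀ ∈ Cgrp H (ev n F j)) :
    Cgrp H (ev n F j) = ⊤ := by
  refine Cfsg.Agent.Lib.Helper6.SLTwoGen.addSubgroup_eq_top_of_sq_stable _ k hk c₀ hc₀ ?_
  intro m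
  induction m with
  | zero => rw [pow_zero, one_mul]; exact h0
  | succ m ih =>
    have := Cgrp_dtor hd ih
    rw [pow_succ]
    have e : ((k : F) * (k : F)) ^ m * ((k : F) * (k : F)) * c₀
        = (k : F) * (k : F) * (((k : F) * (k : F)) ^ m * c₀) := by ring
    rw [e]; exact this

theorem Cgrp_zero_of_one (hy : yel n F ∈ H) (hn : 2 ≤ n) {t : F}
    (ht : t ∈ Cgrp H (ev n F 1)) : t ∈ Cgrp H (ev n F 0) := by
  rw [mem_Cgrp] at ht ⊢
  rw [← conj_mem_iff' hy, conj_tv, ← act_def, yel_ev (by omega)]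
  exact ht

/-! ### exact root elements in the radical -/

variable [Fintype F] {k : Fˣ}

theorem Hm_fv (hk : ∀ u : Fˣ, u ∈ Subgroup.zpowers k)
    (hd : dtor n k ∈ H) (hy : yel n F ∈ H) (ha : ael n F ∈ H) (hn : 2 ≤ n) :
    ∀ j : ℕ, j + 1 < n → ∀ t : F, Hm H (ev n F 0) (t • fv n F (j + 1)) 0 := by
  intro j
  induction j with
  | zero =>
    intro _ t
    exact ⟨form_ev_smul_fv_succ 0 t, Pj_all hk hd hy ha hn (by omega) t⟩
  | succ j ih =>
    intro hj t
    have h1 := ih (by omega) t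
    have h2 : rho (ev n F (j + 1)) ((1 : F) • fv n F (j + 1 + 1)) 0 ∈ H :=
      Pj_all hk hd hy ha hn (by omega) 1
    have h3 := h1.act h2 (aj_ev_zero (by omega) 1)
    rw [act_smul, aj_fv hj, one_smul] at h3
    have h4 := h3.add h1.neg
    refine h4.congr ?_ ?_
    · module
    · simp only [sympForm_smul_left, sympForm_smul_right, form_neg_left, sympForm_add_right,
        form_fv_fv]
      ring

theorem Hm_ev_aux (hk : ∀ u : Fˣ, u ∈ Subgroup.zpowers k)
    (hd : dtor n k ∈ H) (hy : yel n F ∈ H) (ha : ael n F ∈ H) (hn : 2 ≤ n) {l : ℕ}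
    (hl : l + 1 = n) :
    ∀ d j : ℕ, j + d = l → 1 ≤ j → ∀ t : F, Hm H (ev n F 0) (t • ev n F j) 0 := by
  intro d
  induction d with
  | zero =>
    intro j hj _ t
    have hjl : j = l := by omega
    subst hjl
    refine ⟨by rw [sympForm_smul_right, form_ev_ev, mul_zero], ?_⟩
    rw [rho_symm' (form_ev_ev 0 j)]
    exact Rr_all hk hd hy ha hn hl t
  | succ d ih =>
    intro j hj hj1 t
    have h1 := ih (j + 1) (by omega) (by omega) (-t)
    have h2 : rho (ev n F j) ((1 : F) • fv n F (j + 1)) 0 ∈ H :=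
      Pj_all hk hd hy ha hn (by omega) 1
    have h3 := h1.act h2 (aj_ev_zero hj1 1)
    rw [act_smul, aj_ev_succ (by omega), one_smul] at h3
    have h4 := h3.add h1.neg
    refine h4.congr ?_ ?_
    · module
    · simp only [sympForm_smul_left, sympForm_smul_right, form_neg_left, sympForm_sub_right,
        form_ev_ev]
      ring

theorem Hm_ev (hk : ∀ u : Fˣ, u ∈ Subgroup.zpowers k)
    (hd : dtor n k ∈ H) (hy : yel n F ∈ H) (ha : ael n F ∈ H) (hn : 2 ≤ n) {j : ℕ}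
    (hj1 : 1 ≤ j) (hj : j < n) (t : F) : Hm H (ev n F 0) (t • ev n F j) 0 :=
  Hm_ev_aux hk hd hy ha hn (l := n - 1) (by omega) (n - 1 - j) j (by omega) hj1 t

/-! ### rank at least three: a long root element from the second conjugate -/

theorem one_mem_Cgrp (hk : ∀ u : Fˣ, u ∈ Subgroup.zpowers k)
    (hd : dtor n k ∈ H) (hy : yel n F ∈ H) (ha : ael n F ∈ H) (hn : 3 ≤ n) :
    (1 : F) ∈ Cgrp H (ev n F 0) := by
  obtain ⟨l, hl⟩ : ∃ l, l + 1 = n := ⟨n - 1, by omega⟩
  have hn2 : 2 ≤ n := by omega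
  have hb : rho (ev n F l) ((1 : F) • ev n F 0) 0 ∈ H := Rr_all hk hd hy ha hn2 hl 1
  have hc : rho (fv n F 0) ((1 : F) • ev n F 1) 0 ∈ H := by
    have := (conj_mem_iff' hy _).mpr hb
    rwa [conj_rho, act_smul, yel_ev_last hl, yel_ev (by omega)] at this
  have hg : rho (fv n F 1 + ev n F 1) ((1 : F) • ev n F 2) 0 ∈ H := by
    have := (conj_mem_iff' hy _).mpr hc
    rwa [conj_rho, act_smul, yel_fv_zero hn2, yel_ev (by omega)] at this
  have hab : sympForm n F (fv n F 1 + ev n F 1) ((1 : F) • ev n F 2) = 0 := by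
    rw [sympForm_smul_right, sympForm_add_left, form_fv_ev_ne (by omega), form_ev_ev]
    ring
  have hfix : act (rho (fv n F 1 + ev n F 1) ((1 : F) • ev n F 2) 0) (ev n F 0) = ev n F 0 := by
    rw [act_rho hab, sympForm_add_right, form_ev_fv_ne (by omega), form_ev_ev,
      sympForm_smul_right, form_ev_ev]
    simp
  have hmove : act (rho (fv n F 1 + ev n F 1) ((1 : F) • ev n F 2) 0) (fv n F 2) =
      fv n F 2 + (fv n F 1 + ev n F 1) := by
    rw [act_rho hab, sympForm_add_right, form_fv_fv, form_fv_ev_ne (by omega),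
      sympForm_smul_right, form_fv_ev_self (by omega)]
    simp
  have hf2 : Hm H (ev n F 0) ((1 : F) • fv n F (1 + 1)) 0 := Hm_fv hk hd hy ha hn2 1 (by omega) 1
  have hf1 : Hm H (ev n F 0) ((1 : F) • fv n F (0 + 1)) 0 := Hm_fv hk hd hy ha hn2 0 (by omega) 1
  have he1 : Hm H (ev n F 0) ((1 : F) • ev n F 1) 0 :=
    Hm_ev hk hd hy ha hn2 (le_refl 1) (by omega) 1
  have k1 := hf2.act hg hfix
  rw [act_smul, one_smul, hmove] at k1
  have s2 := (hf2.add hf1).add he1
  have s3 : Hm H (ev n F 0) (fv n F 2 + (fv n F 1 + ev n F 1)) (-1) := by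
    refine s2.congr ?_ ?_
    · simp only [one_smul]; abel
    · simp only [one_smul, sympForm_add_right, form_fv_fv, form_ev_fv_self (show 1 < n by omega),
        form_ev_fv_ne (show 1 ≠ 2 by omega)]
      ring
  have := k1.diff s3
  rwa [sub_neg_eq_add, zero_add] at this

theorem Cgrp_top_of_three (hk : ∀ u : Fˣ, u ∈ Subgroup.zpowers k)
    (hd : dtor n k ∈ H) (hy : yel n F ∈ H) (ha : ael n F ∈ H) (hn : 3 ≤ n) (t : F) :
    t ∈ Cgrp H (ev n F 0) := by
  rw [Cgrp_eq_top hk hd one_ne_zero (one_mem_Cgrp hk hd hy ha hn)]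
  trivial

/-! ### the torus trick -/

omit [Fintype F] in
theorem diag_comm {g h : ↥(symplecticGroup (Fin n) F)}
    (hge : ∀ j, j < n → ∃ c : F, act g (ev n F j) = c • ev n F j)
    (hgf : ∀ j, j < n → ∃ c : F, act g (fv n F j) = c • fv n F j)
    (hhe : ∀ j, j < n → ∃ c : F, act h (ev n F j) = c • ev n F j)
    (hhf : ∀ j, j < n → ∃ c : F, act h (fv n F j) = c • fv n F j) : g * h = h * g := by
  apply ext_basis
  · intro j hj
    obtain ⟨c, hc⟩ := hge j hj
    obtain ⟨c', hc'⟩ := hhe j hj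
    rw [act_mul, act_mul, hc, hc', act_smul, act_smul, hc, hc', smul_smul, smul_smul, mul_comm]
  · intro j hj
    obtain ⟨c, hc⟩ := hgf j hj
    obtain ⟨c', hc'⟩ := hhf j hj
    rw [act_mul, act_mul, hc, hc', act_smul, act_smul, hc, hc', smul_smul, smul_smul, mul_comm]

omit [Fintype F] in
theorem act_conj_of {w d : ↥(symplecticGroup (Fin n) F)} {x v : Fin n ⊕ Fin n → F} {c : F}
    (hw : act w x = v) (hd : act d x = c • x) : act (w * d * w⁻¹) v = c • v := by
  rw [act_mul, act_mul, ← hw, act_inv_act, hd, act_smul]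

omit [Fintype F] in
theorem cox_dtor_comm (k : Fˣ) (hn : 1 ≤ n) :
    dtor n k * (cox n F * dtor n k * (cox n F)⁻¹) = cox n F * dtor n k * (cox n F)⁻¹ * dtor n k := by
  obtain ⟨l, hl⟩ : ∃ l, l + 1 = n := ⟨n - 1, by omega⟩
  apply diag_comm
  · intro j _; exact ⟨_, dtor_ev k j⟩
  · intro j _; exact ⟨_, dtor_fv k j⟩
  · intro j hj
    rcases Nat.eq_zero_or_pos j with h0 | h0
    · subst h0
      refine ⟨((k⁻¹ : Fˣ) : F), act_conj_of (x := -fv n F l) ?_ ?_⟩
      · rw [act_neg, cox_fv_last hl, neg_neg]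
      · rw [act_neg, dtor_fv, smul_neg]
    · obtain ⟨j', rfl⟩ : ∃ j', j = j' + 1 := ⟨j - 1, by omega⟩
      exact ⟨_, act_conj_of (cox_ev hj) (dtor_ev k j')⟩
  · intro j hj
    rcases Nat.eq_zero_or_pos j with h0 | h0
    · subst h0
      exact ⟨_, act_conj_of (cox_ev_last hl) (dtor_ev k l)⟩
    · obtain ⟨j', rfl⟩ : ∃ j', j = j' + 1 := ⟨j - 1, by omega⟩
      exact ⟨_, act_conj_of (cox_fv hj) (dtor_fv k j')⟩

omit [Fintype F] in
theorem yel_conj_dtor (k : Fˣ) (hn : 2 ≤ n) :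
    yel n F * dtor n k * (yel n F)⁻¹ =
      tv n (ev n F 1) (1 - (k : F) * (k : F)) * (cox n F * dtor n k * (cox n F)⁻¹) := by
  have h1 : tv n (ev n F 0) 1 * dtor n k * (tv n (ev n F 0) 1)⁻¹ =
      tv n (ev n F 0) (1 - (k : F) * (k : F)) * dtor n k := by
    have e : tv n (ev n F 0) 1 * dtor n k * (tv n (ev n F 0) 1)⁻¹ =
        tv n (ev n F 0) 1 * (dtor n k * (tv n (ev n F 0) 1)⁻¹ * (dtor n k)⁻¹) * dtor n k := by
      group
    rw [e, tv_inv, conj_tv, ← act_def, dtor_ev, tv_smul, tv_mul]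
    congr 2
    ring
  have h2 : yel n F * dtor n k * (yel n F)⁻¹ =
      cox n F * (tv n (ev n F 0) 1 * dtor n k * (tv n (ev n F 0) 1)⁻¹) * (cox n F)⁻¹ := by
    unfold yel
    group
  rw [h2, h1]
  have e : cox n F * (tv n (ev n F 0) (1 - (k : F) * (k : F)) * dtor n k) * (cox n F)⁻¹ =
      (cox n F * tv n (ev n F 0) (1 - (k : F) * (k : F)) * (cox n F)⁻¹) *
        (cox n F * dtor n k * (cox n F)⁻¹) := by
    group
  rw [e, conj_tv, ← act_def, cox_ev (by omega)]

omit [Fintype F] in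
theorem torus_trick (hd : dtor n k ∈ H) (hy : yel n F ∈ H) (hn : 2 ≤ n) :
    ((k : F) * (k : F) - 1) * (1 - (k : F) * (k : F)) ∈ Cgrp H (ev n F 1) := by
  rw [mem_Cgrp]
  set c : F := 1 - (k : F) * (k : F) with hc
  set d' := cox n F * dtor n k * (cox n F)⁻¹ with hd'
  have hz : tv n (ev n F 1) c * d' ∈ H := by
    rw [← yel_conj_dtor k hn]
    exact (conj_mem_iff' hy _).mpr hd
  have hz2 : dtor n k * (tv n (ev n F 1) c * d') * (dtor n k)⁻¹ ∈ H := (conj_mem_iff' hd _).mpr hz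
  have e1 : dtor n k * (tv n (ev n F 1) c * d') * (dtor n k)⁻¹ =
      tv n (ev n F 1) ((k : F) * (k : F) * c) * d' := by
    have e : dtor n k * (tv n (ev n F 1) c * d') * (dtor n k)⁻¹ =
        (dtor n k * tv n (ev n F 1) c * (dtor n k)⁻¹) * (dtor n k * d' * (dtor n k)⁻¹) := by
      group
    rw [e, conj_tv, ← act_def, dtor_ev, tv_smul, hd', cox_dtor_comm k (by omega)]
    group
  rw [e1] at hz2
  have h3 := H.mul_mem hz2 (H.inv_mem hz)
  have e2 : tv n (ev n F 1) ((k : F) * (k : F) * c) * d' * (tv n (ev n F 1) c * d')⁻¹ =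
      tv n (ev n F 1) ((k : F) * (k : F) * c) * (tv n (ev n F 1) c)⁻¹ := by
    group
  rw [e2, tv_inv, tv_mul] at h3
  have e3 : (k : F) * (k : F) * c + -c = ((k : F) * (k : F) - 1) * c := by ring
  rw [e3] at h3
  exact h3

theorem Cgrp_top_of_sq_ne_one (hk : ∀ u : Fˣ, u ∈ Subgroup.zpowers k)
    (hd : dtor n k ∈ H) (hy : yel n F ∈ H) (hn : 2 ≤ n) (hk2 : (k : F) * (k : F) ≠ 1) (t : F) :
    t ∈ Cgrp H (ev n F 0) := by
  apply Cgrp_zero_of_one hy hn
  have h1 := torus_trick hd hy hn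
  have hne : ((k : F) * (k : F) - 1) * (1 - (k : F) * (k : F)) ≠ 0 := by
    apply mul_ne_zero
    · exact sub_ne_zero.mpr hk2
    · exact sub_ne_zero.mpr (Ne.symm hk2)
  rw [Cgrp_eq_top hk hd hne h1]
  trivial

end center

end Cfsg.Agent.Lib.Helper5.SpTwoGen
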