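import Mathlib
import Cfsg.Prelude
import Cfsg.Agent.Lib.Helper5.SpTwoGen.Center

set_option autoImplicit false
set_option maxHeartbeats 4000000
set_option linter.unusedVariables false
set_option linter.unusedSectionVars false
set_option linter.style.longLine false
set_option linter.unusedSimpArgs false
set_option linter.deprecated false

/-! Two-generation of `Sp_2n(F)`, part 5: the subgroup generated is everything, and the two
generators. -/

namespace Cfsg.Agent.Lib.Helper5.SpTwoGen

open Matrix Cfsg Cfsg.Agent.Lib.Helper5.SympTv Cfsg.Agent.Lib.Helper5.SympPerfect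
  Cfsg.Agent.Lib.Helper5.SympGen Cfsg.Agent.Lib.Helper1.Rg Cfsg.Agent.Lib.Helper1.Rs
  Cfsg.Agent.Lib.Helper6.SW

universe u

variable {F : Type u} [Field F] {n : ℕ}

theorem yel_pow_ev : ∀ j : ℕ, j < n → act ((yel n F) ^ j) (ev n F 0) = ev n F j := by
  intro j
  induction j with
  | zero => intro _; rw [pow_zero, act_one]
  | succ j ih =>
    intro hj
    rw [pow_succ', act_mul, ih (by omega), yel_ev hj]

theorem yel_pow_n (hn : 1 ≤ n) : act ((yel n F) ^ n) (ev n F 0) = fv n F 0 := by
  obtain ⟨l, hl⟩ : ∃ l, l + 1 = n := ⟨n - 1, by omega⟩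
  have e : (yel n F) ^ n = yel n F * (yel n F) ^ l := by rw [← pow_succ', hl]
  rw [e, act_mul, yel_pow_ev l (by omega), yel_ev_last hl]

variable [Fintype F]

theorem sq_ne_one_of_two {k : Fˣ} (hk : ∀ u : Fˣ, u ∈ Subgroup.zpowers k) (h2 : (2 : F) = 0)
    (hF : 2 < Fintype.card F) : (k : F) * (k : F) ≠ 1 := by
  classical
  intro h
  have h1 : ((k : F) + 1) * ((k : F) + 1) = 0 := by
    have : ((k : F) + 1) * ((k : F) + 1) = (k : F) * (k : F) + 2 * (k : F) + 1 := by ring
    rw [this, h, h2]
    have : (1 : F) + 0 * (k : F) + 1 = 2 := by ring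
    rw [this, h2]
  have h3 : (k : F) + 1 = 0 := by
    rcases mul_eq_zero.mp h1 with h | h <;> exact h
  have h4 : (k : F) = 1 := by
    have : (k : F) = -1 := eq_neg_of_add_eq_zero_left h3
    rw [this]
    have : (-1 : F) = 1 := by
      have e : (1 : F) + 1 = 0 := by rw [one_add_one_eq_two]; exact h2
      exact neg_eq_of_add_eq_zero_left e
    exact this
  have h5 : k = 1 := Units.ext h4
  have h6 : ∀ u : Fˣ, u = 1 := by
    intro u
    have := hk u
    rw [h5, Subgroup.zpowers_one_eq_bot, Subgroup.mem_bot] at this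
    exact this
  have h7 : Fintype.card Fˣ ≤ 1 := by
    rw [Fintype.card_le_one_iff]
    intro a b; rw [h6 a, h6 b]
  rw [Fintype.card_units] at h7
  omega

/-- the subgroup generated by the torus element, the root element and the Coxeter-type element
is everything -/
theorem top_of_gens {H : Subgroup ↥(symplecticGroup (Fin n) F)} {k : Fˣ}
    (hk : ∀ u : Fˣ, u ∈ Subgroup.zpowers k)
    (hd : dtor n k ∈ H) (hy : yel n F ∈ H) (ha : ael n F ∈ H) (hn : 2 ≤ n)
    (hF : n = 2 → 2 < Fintype.card F) : H = ⊤ := by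
  have hrad := hrad_of hk hd hy ha hn
  have hC : ∀ t : F, t ∈ Cgrp H (ev n F 0) := by
    intro t
    by_cases h2 : (2 : F) = 0
    · by_cases h3 : 3 ≤ n
      · exact Cgrp_top_of_three hk hd hy ha h3 t
      · have hn2 : n = 2 := by omega
        exact Cgrp_top_of_sq_ne_one hk hd hy hn (sq_ne_one_of_two hk h2 (hF hn2)) t
    · exact Cgrp_top_of_odd hrad hn h2 t
  have hR := rad_all hrad hC
  have hf0 : Full H (ev n F 0) := fun t => hC t
  have hf1 : Full H (fv n F 0) := by
    have := hf0.act (H.pow_mem hy n)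
    rwa [yel_pow_n (by omega)] at this
  have hne : sympForm n F (fv n F 0) (ev n F 0) ≠ 0 := by
    rw [form_fv_ev_self (by omega)]; exact one_ne_zero
  exact top_of_full (full_all (by omega) hR hne hf1)

/-! ### merging the torus element and the root element into one generator -/

omit [Fintype F] in
theorem dtor_comm_ael (k : Fˣ) : dtor n k * ael n F = ael n F * dtor n k := by
  have h : dtor n k * ael n F * (dtor n k)⁻¹ = ael n F := by
    unfold ael
    rw [conj_rho, dtor_ev, dtor_fv]
    have h1 : sympForm n F (ev n F 0) (((k⁻¹ : Fˣ) : F) • fv n F 1) = 0 := by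
      rw [sympForm_smul_right, form_ev_fv_ne (by omega), mul_zero]
    rw [rho_smul_left h1, smul_smul, mul_zero]
    have : (k : F) * ((k⁻¹ : Fˣ) : F) = 1 := by
      rw [← Units.val_mul, mul_inv_cancel, Units.val_one]
    rw [this, one_smul]
  exact mul_inv_eq_iff_eq_mul.mp h

omit [Fintype F] in
theorem dtor_pow_ev (k : Fˣ) (m j : ℕ) :
    act ((dtor n k) ^ m) (ev n F j) = ((k : F) ^ m) • ev n F j := by
  induction m with
  | zero => rw [pow_zero, pow_zero, act_one, one_smul]
  | succ m ih => rw [pow_succ', act_mul, ih, act_smul, dtor_ev, smul_smul, pow_succ]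

omit [Fintype F] in
theorem dtor_pow_fv (k : Fˣ) (m j : ℕ) :
    act ((dtor n k) ^ m) (fv n F j) = ((((k⁻¹ : Fˣ) : F)) ^ m) • fv n F j := by
  induction m with
  | zero => rw [pow_zero, pow_zero, act_one, one_smul]
  | succ m ih => rw [pow_succ', act_mul, ih, act_smul, dtor_fv, smul_smul, pow_succ]

theorem dtor_pow_card (k : Fˣ) : (dtor n k) ^ (Fintype.card F - 1) = 1 := by
  apply ext_basis
  · intro j _
    rw [dtor_pow_ev, FiniteField.pow_card_sub_one_eq_one _ (Units.ne_zero k), one_smul, act_one]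
  · intro j _
    rw [dtor_pow_fv, FiniteField.pow_card_sub_one_eq_one _ (Units.ne_zero k⁻¹), one_smul, act_one]

omit [Fintype F] in
theorem ael_pow (m : ℕ) : (ael n F) ^ m = rho (ev n F 0) ((m : F) • fv n F 1) 0 := by
  induction m with
  | zero => rw [pow_zero, Nat.cast_zero, zero_smul, rho_zero, tv_zero]
  | succ m ih =>
    have h1 : sympForm n F (ev n F 0) ((m : F) • fv n F 1) = 0 := by
      rw [sympForm_smul_right, form_ev_fv_ne (by omega), mul_zero]
    have h2 : sympForm n F (ev n F 0) (fv n F 1) = 0 := form_ev_fv_ne (by omega)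
    rw [pow_succ, ih]
    unfold ael
    rw [rho_mul h1 h2, sympForm_smul_right, form_fv_fv, mul_zero, add_zero, add_zero,
      Nat.cast_succ, add_smul, one_smul]

theorem ael_pow_card : (ael n F) ^ (Fintype.card F) = 1 := by
  rw [ael_pow, FiniteField.cast_card_eq_zero, zero_smul, rho_zero, tv_zero]

theorem gens_mem_closure (k : Fˣ) :
    dtor n k ∈ Subgroup.closure ({dtor n k * ael n F, yel n F} : Set ↥(symplecticGroup (Fin n) F))
    ∧ ael n F ∈ Subgroup.closure
      ({dtor n k * ael n F, yel n F} : Set ↥(symplecticGroup (Fin n) F)) := by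
  set K := Subgroup.closure ({dtor n k * ael n F, yel n F} : Set ↥(symplecticGroup (Fin n) F))
    with hK
  have hg : dtor n k * ael n F ∈ K := Subgroup.subset_closure (by simp)
  have hq : 1 ≤ Fintype.card F := Fintype.card_pos
  have hpow : (dtor n k * ael n F) ^ (Fintype.card F) = dtor n k := by
    rw [(show Commute (dtor n k) (ael n F) from dtor_comm_ael k).mul_pow, ael_pow_card, mul_one]
    have e : Fintype.card F = (Fintype.card F - 1) + 1 := by omega
    rw [e, pow_succ, dtor_pow_card, one_mul]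
  have hd : dtor n k ∈ K := by
    rw [← hpow]; exact K.pow_mem hg _
  refine ⟨hd, ?_⟩
  have : ael n F = (dtor n k)⁻¹ * (dtor n k * ael n F) := by group
  rw [this]
  exact K.mul_mem (K.inv_mem hd) hg

/-- `Sp_2n(F)` is generated by two elements -/
theorem sp_two_gen (hn : 2 ≤ n) (hF : n = 2 → 2 < Fintype.card F) :
    ∃ a b : ↥(symplecticGroup (Fin n) F),
      Subgroup.closure ({a, b} : Set ↥(symplecticGroup (Fin n) F)) = ⊤ := by
  obtain ⟨k, hk⟩ := IsCyclic.exists_generator (α := Fˣ)
  refine ⟨dtor n k * ael n F, yel n F, ?_⟩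
  have h := gens_mem_closure (n := n) k
  exact top_of_gens hk h.1 (Subgroup.subset_closure (by simp)) h.2 hn hF

/-- `PSp_2n(F)` is generated by two elements -/
theorem psp_two_gen (hn : 2 ≤ n) (hF : n = 2 → 2 < Fintype.card F) :
    ∃ a b : Cfsg.PSp n F, Subgroup.closure ({a, b} : Set (Cfsg.PSp n F)) = ⊤ := by
  obtain ⟨a, b, hab⟩ := sp_two_gen (F := F) hn hF
  refine ⟨QuotientGroup.mk a, QuotientGroup.mk b, ?_⟩
  have h := MonoidHom.map_closure
    (QuotientGroup.mk' (Subgroup.center ↥(symplecticGroup (Fin n) F))) {a, b}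
  rw [hab, Set.image_pair, Subgroup.map_top_of_surjective _ (QuotientGroup.mk'_surjective _)] at h
  exact h.symm

end Cfsg.Agent.Lib.Helper5.SpTwoGen
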